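import Cfsg.Agent.H294.PU.Gen_m3
import Cfsg.Agent.LieClassical.HermBasic
import Cfsg.Agent.Prune
set_option linter.all false
prune_inst 0x7f00000000000000000000000000000000000000000000000000000000000000000000000000000000000000000000000000000000000000000000000000000000000000000000000000000000000000003fffffffffffffffffffffffffffbeffbdffffffff
open scoped Cfsg.Agent.FastGrp

/-!
# S5258: the order of `UG K` (helper681)
-/

set_option autoImplicit false

namespace Cfsg.Agent.H681.PU

open Cfsg.Agent.H756.PU Cfsg.Agent.LieClassical.HermBasic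

universe u

section
variable {F : Type u} [Field F] [Fintype F] {q : ℕ}

theorem card_trace_zero (hF : Fintype.card F = q ^ 2) : Nat.card {x : F // x + x ^ q = 0} = q := by
  obtain ⟨c0, hc0, hc⟩ := exists_trace_zero_ne hF
  have hcq : c0 ^ q = -c0 := by linear_combination hc
  refine (Nat.card_congr ?_).trans (card_fixed hF)
  exact
    { toFun := fun x => ⟨c0⁻¹ * x.1, by
        have h1 : x.1 ^ q = -x.1 := by linear_combination x.2
        rw [mul_pow, inv_pow, hcq, h1, inv_neg, neg_mul_neg]⟩
      invFun := fun x => ⟨c0 * x.1, by rw [mul_pow, hcq, x.2]; ring⟩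
      left_inv := fun x => Subtype.ext (mul_inv_cancel_left₀ hc0 _)
      right_inv := fun x => Subtype.ext (inv_mul_cancel_left₀ hc0 _) }

theorem card_trace_eq (hF : Fintype.card F = q ^ 2) {t : F} (ht : t ^ q = t) :
    Nat.card {x : F // x + x ^ q = t} = q := by
  obtain ⟨y, hy⟩ := exists_trace_eq hF ht
  refine (Nat.card_congr ?_).trans (card_trace_zero hF)
  exact
    { toFun := fun x => ⟨x.1 - y, by rw [sub_pow_q hF]; linear_combination x.2 - hy⟩
      invFun := fun x => ⟨x.1 + y, by rw [add_pow_q hF]; linear_combination x.2 + hy⟩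
      left_inv := fun x => Subtype.ext (sub_add_cancel _ _)
      right_inv := fun x => Subtype.ext (add_sub_cancel_right _ _) }

/-- the pairs `(u, a)` with `a + a^q + u u^q = 0` -/
theorem card_pairs (hF : Fintype.card F = q ^ 2) :
    Nat.card (Σ u : F, {x : F // x + x ^ q = -(u * u ^ q)}) = q ^ 3 := by
  classical
  rw [Nat.card_sigma]
  have h : ∀ u : F, Nat.card {x : F // x + x ^ q = -(u * u ^ q)} = q := fun u =>
    card_trace_eq hF (by rw [neg_pow_q hF, norm_pow_q hF])
  rw [Finset.sum_congr rfl (fun u _ => h u), Finset.sum_const, Finset.card_univ, hF, smul_eq_mul]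
  ring
end

section
variable {K : Type u} [Field K] [StarRing K]

theorem card_UG {p n : ℕ} (h : HypK K p n) : Nat.card (UG K) = (p ^ n) ^ 10 := by
  haveI : Fintype K := @Fintype.ofFinite K h.fin
  have hF : Fintype.card K = (p ^ n) ^ 2 := by rw [← Nat.card_eq_fintype_card, h.card]
  have e : UG K ≃ (K × K) × ((Σ u : K, {x : K // x + x ^ (p ^ n) = -(u * u ^ (p ^ n))}) ×
      (Σ u : K, {x : K // x + x ^ (p ^ n) = -(u * u ^ (p ^ n))})) :=
    { toFun := fun x => ((x.r, x.b), (⟨x.u1, x.a, by
        have := x.ha; rw [h.star_eq, h.star_eq] at this; linear_combination this⟩, ⟨x.u2, x.c, by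
        have := x.hc; rw [h.star_eq, h.star_eq] at this; linear_combination this⟩))
      invFun := fun y => ⟨y.1.1, y.2.1.1, y.2.2.1, y.2.1.2.1, y.1.2, y.2.2.2.1, by
        have := y.2.1.2.2; rw [h.star_eq, h.star_eq]; linear_combination this, by
        have := y.2.2.2.2; rw [h.star_eq, h.star_eq]; linear_combination this⟩
      left_inv := fun x => rfl
      right_inv := fun y => rfl }
  rw [Nat.card_congr e, Nat.card_prod, Nat.card_prod, Nat.card_prod, card_pairs hF, h.card]
  ring

theorem isPGroup_UG {p n : ℕ} (h : HypK K p n) : IsPGroup p (UG K) := by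
  haveI := Fact.mk h.pp
  haveI : Finite (UG K) := Nat.finite_of_card_ne_zero (by
    rw [card_UG h]; exact pow_ne_zero _ (pow_ne_zero _ h.pp.ne_zero))
  exact IsPGroup.of_card (n := n * 10) (by rw [card_UG h, ← pow_mul])
end

end Cfsg.Agent.H681.PU
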